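import Groth.Agent.QuotLib.Props

/-!
# Composition of quotients
-/

set_option autoImplicit false
set_option backward.isDefEq.respectTransparency false
set_option backward.isDefEq.respectTransparency.types false
noncomputable section

universe u

open CategoryTheory CategoryTheory.Limits AlgebraicGeometry

namespace QuotTame

theorem isQuot_comp {A B C : Scheme.{u}} {G H K : Type u} [Group G] [Group H] [Group K]
    {ρ : G →* Aut A} {ρ₂ : H →* Aut B} (iH : H →* G) (iK : K →* G) (hgen : ∀ x : G, ∃ h k, x = iH h * iK k)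
    {p₁ : A ⟶ B} {p₂ : B ⟶ C} (hp₁ : SGA1.IsQuot (ρ.comp iK) p₁) (hp₂ : SGA1.IsQuot ρ₂ p₂)
    (heq : ∀ h, (ρ (iH h)).hom ≫ p₁ = p₁ ≫ (ρ₂ h).hom) : SGA1.IsQuot ρ (p₁ ≫ p₂) := by
  haveI := hp₁.affine
  haveI := hp₂.affine
  have hinv : ∀ x : G, (ρ x).hom ≫ p₁ ≫ p₂ = p₁ ≫ p₂ := fun x => by
    obtain ⟨h, k, rfl⟩ := hgen x
    rw [map_mul]
    change ((ρ (iK k)).hom ≫ (ρ (iH h)).hom) ≫ p₁ ≫ p₂ = p₁ ≫ p₂
    rw [Category.assoc, reassoc_of% (heq h), hp₂.inv]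
    exact (Category.assoc _ _ _).symm.trans (congrArg (· ≫ p₂) (hp₁.inv k))
  refine ⟨inferInstance, hinv, fun U => ?_, fun U s => ⟨?_, fun hs => ?_⟩⟩
  · exact (hp₁.injective (p₂ ⁻¹ᵁ U)).comp (hp₂.injective U)
  · rintro ⟨t, rfl⟩ x
    change ((p₁ ≫ p₂).app U ≫ (ρ x).hom.appLE _ _ _).hom t = _
    rw [Scheme.Hom.app_eq_appLE, Scheme.Hom.appLE_comp_appLE]
    simp only [hinv]
  · obtain ⟨t, rfl⟩ := (hp₁.range_iff (p₂ ⁻¹ᵁ U) s).2 fun k => hs (iK k)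
    obtain ⟨u, hu⟩ := (hp₂.range_iff U t).2 fun h => by
      apply hp₁.injective (p₂ ⁻¹ᵁ U)
      refine Eq.trans ?_ (hs (iH h))
      change ((ρ₂ h).hom.appLE _ _ _ ≫ p₁.app (p₂ ⁻¹ᵁ U)).hom t = (p₁.app (p₂ ⁻¹ᵁ U) ≫ (ρ (iH h)).hom.appLE _ _ _).hom t
      rw [Scheme.Hom.app_eq_appLE, Scheme.Hom.appLE_comp_appLE, Scheme.Hom.appLE_comp_appLE]
      simp only [heq]
    exact ⟨u, congrArg (p₁.app (p₂ ⁻¹ᵁ U)).hom hu⟩

end QuotTame
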