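import Groth.Agent.QuotLib.Sep
import Groth.Agent.QuotLib.Exists
import Mathlib.AlgebraicGeometry.Morphisms.FinitePresentation
import Mathlib.AlgebraicGeometry.Morphisms.Flat
import Mathlib.RingTheory.Finiteness.ModuleFinitePresentation

/-!
# Tame quotients: flatness and finite presentation descend
-/

set_option autoImplicit false
set_option backward.isDefEq.respectTransparency false
set_option backward.isDefEq.respectTransparency.types false
noncomputable section

universe u

open CategoryTheory CategoryTheory.Limits AlgebraicGeometry TopologicalSpace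

namespace QuotTame

section Ring

variable {R A B : Type u} [CommRing R] [CommRing A] [CommRing B] [Algebra R A] [Algebra R B] [Algebra A B]
  [IsScalarTower R A B]

theorem flat_of_retraction (σ : B →ₗ[A] A) (hσ : ∀ a, σ (algebraMap A B a) = a) [Module.Flat R B] :
    Module.Flat R A :=
  Module.Flat.of_retract (IsScalarTower.toAlgHom R A B).toLinearMap (σ.restrictScalars R) (LinearMap.ext hσ)

theorem finitePresentation_of_retraction (σ : B →ₗ[A] A) (hσ : ∀ a, σ (algebraMap A B a) = a)
    [Algebra.IsIntegral A B] [Algebra.FinitePresentation R B] : Algebra.FinitePresentation R A := by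
  classical
  rcases subsingleton_or_nontrivial A with hA | hA
  · exact Algebra.FinitePresentation.of_surjective (R := R) (f := Algebra.ofId R A) (fun a => ⟨0, Subsingleton.elim _ _⟩)
      ⟨{1}, by
        rw [Finset.coe_singleton, Ideal.span_singleton_one]
        exact eq_comm.1 (eq_top_iff.2 fun r _ => Subsingleton.elim (α := A) _ _)⟩
  obtain ⟨s, hs⟩ := (inferInstance : Algebra.FiniteType R B).out
  choose p hp hpx using fun x : s => Algebra.IsIntegral.isIntegral (R := A) (x : B)
  let c : Finset A := Finset.univ.biUnion fun x : s => (p x).coeffs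
  let P := MvPolynomial c R
  let aP : P →ₐ[R] A := MvPolynomial.aeval Subtype.val
  letI : Algebra P A := aP.toRingHom.toAlgebra
  letI : Algebra P B := ((algebraMap A B).comp aP.toRingHom).toAlgebra
  haveI : IsScalarTower P A B := IsScalarTower.of_algebraMap_eq fun _ => rfl
  haveI : IsScalarTower R P A := IsScalarTower.of_algebraMap_eq fun r => (aP.commutes r).symm
  haveI : IsScalarTower R P B := IsScalarTower.of_algebraMap_eq fun r => by
    rw [IsScalarTower.algebraMap_apply R A B]; exact congrArg (algebraMap A B) (aP.commutes r).symm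
  haveI : Algebra.FinitePresentation P B := Algebra.FinitePresentation.of_restrict_scalars_finitePresentation R P B
  have hint : ∀ x : s, _root_.IsIntegral P (x : B) := fun x => by
    have hl : p x ∈ Polynomial.lifts (algebraMap P A) := (Polynomial.lifts_iff_coeff_lifts _).2 fun n => by
      rcases eq_or_ne ((p x).coeff n) 0 with h0 | h0
      · exact ⟨0, by rw [map_zero, h0]⟩
      · exact ⟨MvPolynomial.X ⟨(p x).coeff n, Finset.mem_biUnion.2
          ⟨x, Finset.mem_univ _, Polynomial.coeff_mem_coeffs h0⟩⟩, MvPolynomial.aeval_X _ _⟩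
    obtain ⟨p', hp', -, hm⟩ := Polynomial.lifts_and_degree_eq_and_monic hl (hp x)
    refine ⟨p', hm, ?_⟩
    have := hpx x
    rw [← hp', Polynomial.eval₂_map, ← IsScalarTower.algebraMap_eq] at this
    exact this
  haveI : Algebra.IsIntegral P B := ⟨fun b => by
    have hle : Algebra.adjoin R (s : Set B) ≤ (integralClosure P B).restrictScalars R :=
      Algebra.adjoin_le fun x hx => hint ⟨x, hx⟩
    rw [hs] at hle
    exact hle (Algebra.mem_top (x := b))⟩
  haveI : Module.Finite P B := Algebra.IsIntegral.finite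
  haveI : Module.FinitePresentation P B := Module.FinitePresentation.of_finite_of_finitePresentation P B
  let ι : A →ₗ[P] B := (IsScalarTower.toAlgHom P A B).toLinearMap
  let σ' : B →ₗ[P] A := σ.restrictScalars P
  haveI : Module.FinitePresentation P A := Module.finitePresentation_of_surjective σ' (fun a => ⟨ι a, hσ a⟩) (by
    have : LinearMap.ker σ' = LinearMap.range (LinearMap.id - ι ∘ₗ σ') := by
      ext b
      refine ⟨fun hb => ⟨b, ?_⟩, ?_⟩
      · rw [LinearMap.mem_ker] at hb
        simp [hb]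
      · rintro ⟨b, rfl⟩
        change σ (b - algebraMap A B (σ b)) = 0
        rw [map_sub, hσ, sub_self]
    rw [this]
    rw [LinearMap.range_eq_map]
    exact Module.Finite.fg_top.map _)
  haveI : Algebra.FinitePresentation P A := Algebra.FinitePresentation.of_finitePresentation P A
  exact Algebra.FinitePresentation.trans R P A

end Ring

variable {X Y Z : Scheme.{u}} {G : Type u} [Group G] [Finite G] {ρ : G →* Aut X} {p : X ⟶ Y}

/-- The averaging retraction. -/
theorem exists_retraction (hp : SGA1.IsQuot ρ p) (U : Y.Opens) (hN : IsUnit (Nat.card G : Γ(Y, U))) :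
    letI := (p.app U).hom.toAlgebra
    ∃ σ : Γ(X, p ⁻¹ᵁ U) →ₗ[Γ(Y, U)] Γ(Y, U), ∀ a, σ (algebraMap Γ(Y, U) Γ(X, p ⁻¹ᵁ U) a) = a := by
  letI := (p.app U).hom.toAlgebra
  haveI := Fintype.ofFinite G
  let act : G → Γ(X, p ⁻¹ᵁ U) →+* Γ(X, p ⁻¹ᵁ U) := fun g =>
    ((ρ g).hom.appLE (p ⁻¹ᵁ U) (p ⁻¹ᵁ U) (SGA1.preimage_le_of_inv ρ p hp.inv g U)).hom
  have hfix : ∀ g a, act g ((p.app U).hom a) = (p.app U).hom a := fun g a =>
    (hp.range_iff U _).1 ⟨a, rfl⟩ g
  have hsum : ∀ b, ∃ a, (p.app U).hom a = ∑ g : G, act g b := fun b => (hp.range_iff U _).2 fun h => by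
    rw [map_sum]
    refine Fintype.sum_equiv (Equiv.mulRight h) _ _ fun g => ?_
    change ((ρ g).hom.appLE _ _ _ ≫ (ρ h).hom.appLE _ _ _).hom b = ((ρ (g * h)).hom.appLE _ _ _).hom b
    rw [Scheme.Hom.appLE_comp_appLE]
    simp only [← QuotLib.act_mul]
  choose t ht using hsum
  obtain ⟨c, hc⟩ := hN.exists_left_inv
  have hcN : ∀ a, c * (Nat.card G • a) = a := fun a => by rw [nsmul_eq_mul, ← mul_assoc, hc, one_mul]
  refine ⟨{ toFun := fun b => c * t b, map_add' := fun a b => ?_, map_smul' := fun a b => ?_ }, fun a => ?_⟩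
  · rw [← mul_add]; congr 1
    apply hp.injective U
    rw [map_add, ht, ht, ht]
    simp only [map_add, Finset.sum_add_distrib]
  · rw [RingHom.id_apply, smul_eq_mul, mul_left_comm]; congr 1
    apply hp.injective U
    rw [map_mul, ht, ht, Algebra.smul_def, Finset.mul_sum]
    refine Finset.sum_congr rfl fun g _ => ?_
    rw [map_mul]
    exact congrArg (· * _) (hfix g a)
  · change c * t ((p.app U).hom a) = a
    rw [show t ((p.app U).hom a) = Nat.card G • a by
      apply hp.injective U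
      rw [ht, map_nsmul, Finset.sum_congr rfl fun g _ => hfix g a, Finset.sum_const, Finset.card_univ,
        Nat.card_eq_fintype_card], hcN]

variable (hp : SGA1.IsQuot ρ p) (q : Y ⟶ Z) (hN : IsUnit (Nat.card G : Γ(Z, ⊤)))

include hN in
theorem isUnit_natCard (q : Y ⟶ Z) (U : Y.Opens) : IsUnit (Nat.card G : Γ(Y, U)) := by
  have := (hN.map q.appTop.hom).map (Y.presheaf.map (homOfLE (le_top : U ≤ ⊤)).op).hom
  rwa [map_natCast, map_natCast] at this

include hp hN in
/-- Flatness descends to a tame quotient. -/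
theorem flat_desc [Flat (p ≫ q)] : Flat q := by
  haveI := hp.affine
  refine ⟨fun {V} hV {U} hU e => ?_⟩
  obtain ⟨σ, hσ⟩ := exists_retraction hp U (isUnit_natCard hN q U)
  have e' : p ⁻¹ᵁ U ≤ (p ≫ q) ⁻¹ᵁ V := fun x hx => e hx
  have hf : ((p ≫ q).appLE V (p ⁻¹ᵁ U) e').hom.Flat := (p ≫ q).flat_appLE hV (hU.preimage p) e'
  rw [← Scheme.Hom.appLE_comp_appLE p q V U (p ⁻¹ᵁ U) e le_rfl, ← Scheme.Hom.app_eq_appLE] at hf
  algebraize [(q.appLE V U e).hom, (p.app U).hom, ((p.app U).hom.comp (q.appLE V U e).hom)]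
  haveI : Module.Flat Γ(Z, V) Γ(X, p ⁻¹ᵁ U) := hf
  exact flat_of_retraction (B := Γ(X, p ⁻¹ᵁ U)) σ hσ

include hp hN in
/-- Finite presentation descends to a tame quotient. -/
theorem locallyOfFinitePresentation_desc [LocallyOfFinitePresentation (p ≫ q)] : LocallyOfFinitePresentation q := by
  haveI := hp.affine
  refine HasRingHomProperty.iff_appLE.2 fun V U e => ?_
  obtain ⟨σ, hσ⟩ := exists_retraction hp U.1 (isUnit_natCard hN q U.1)
  have e' : p ⁻¹ᵁ U.1 ≤ (p ≫ q) ⁻¹ᵁ V.1 := fun x hx => e hx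
  have hf : ((p ≫ q).appLE V.1 (p ⁻¹ᵁ U.1) e').hom.FinitePresentation :=
    HasRingHomProperty.appLE (P := @LocallyOfFinitePresentation) (p ≫ q) inferInstance V ⟨_, U.2.preimage p⟩ e'
  rw [← Scheme.Hom.appLE_comp_appLE p q V.1 U.1 (p ⁻¹ᵁ U.1) e le_rfl, ← Scheme.Hom.app_eq_appLE] at hf
  haveI := QuotLib.isIntegralHom hp
  have hi : (p.app U.1).hom.IsIntegral := IsIntegralHom.isIntegral_app p U.1 U.2
  algebraize [(q.appLE V.1 U.1 e).hom, (p.app U.1).hom, ((p.app U.1).hom.comp (q.appLE V.1 U.1 e).hom)]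
  haveI : Algebra.FinitePresentation Γ(Z, V.1) Γ(X, p ⁻¹ᵁ U.1) := hf
  haveI : Algebra.IsIntegral Γ(Y, U.1) Γ(X, p ⁻¹ᵁ U.1) := ⟨hi⟩
  exact finitePresentation_of_retraction (B := Γ(X, p ⁻¹ᵁ U.1)) σ hσ

include hp in
omit [Finite G] in
/-- A quotient of a finitely presented scheme over a finitely presented one is of finite presentation. -/
theorem locallyOfFinitePresentation_quot [LocallyOfFinitePresentation (p ≫ q)] [LocallyOfFiniteType q] :
    LocallyOfFinitePresentation p := by
  haveI := hp.affine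
  refine (HasRingHomProperty.iff_exists_appLE (P := @LocallyOfFinitePresentation)
    (RingHom.finitePresentation_stableUnderComposition.stableUnderCompositionWithLocalizationAway
      RingHom.finitePresentation_holdsForLocalizationAway).1).2 fun x => ?_
  obtain ⟨V, hV, hxV, -⟩ := QuotLib.exists_affine (show q (p x) ∈ (⊤ : Z.Opens) from trivial)
  obtain ⟨U, hU, hxU, hle⟩ := QuotLib.exists_affine (show p x ∈ q ⁻¹ᵁ V from hxV)
  refine ⟨⟨U, hU⟩, ⟨_, hU.preimage p⟩, hxU, le_rfl, ?_⟩
  have e' : p ⁻¹ᵁ U ≤ (p ≫ q) ⁻¹ᵁ V := fun x hx => hle hx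
  have hf : ((p ≫ q).appLE V (p ⁻¹ᵁ U) e').hom.FinitePresentation :=
    HasRingHomProperty.appLE (P := @LocallyOfFinitePresentation) (p ≫ q) inferInstance ⟨V, hV⟩ ⟨_, hU.preimage p⟩ e'
  have hq : (q.appLE V U hle).hom.FiniteType :=
    HasRingHomProperty.appLE (P := @LocallyOfFiniteType) q inferInstance ⟨V, hV⟩ ⟨_, hU⟩ hle
  rw [← Scheme.Hom.appLE_comp_appLE p q V U (p ⁻¹ᵁ U) hle le_rfl] at hf
  algebraize [(q.appLE V U hle).hom, (p.appLE U (p ⁻¹ᵁ U) le_rfl).hom,
    ((p.appLE U (p ⁻¹ᵁ U) le_rfl).hom.comp (q.appLE V U hle).hom)]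
  haveI : Algebra.FinitePresentation Γ(Z, V) Γ(X, p ⁻¹ᵁ U) := hf
  haveI : Algebra.FiniteType Γ(Z, V) Γ(Y, U) := hq
  exact Algebra.FinitePresentation.of_restrict_scalars_finitePresentation Γ(Z, V) Γ(Y, U) Γ(X, p ⁻¹ᵁ U)

end QuotTame
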